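/-
helper36: S2272 (product of two classes of PSL_d, d ≥ 3, is not a class) - part 1:
`SL_n(F)` maps any linearly independent family onto any other one, up to a scalar on the last vector;
vectors outside small spans.
-/
import Mathlib
import Cfsg.Agent.Lib.Helper13.SLTrans

set_option autoImplicit false

namespace Cfsg.Agent.Lib.Helper36.ClsProd

open Matrix Module Cfsg.Agent.Lib.Helper13

variable {F : Type*} [Field F] {n : ℕ}

/-- `SL_n(F)` maps a linearly independent family onto any other one, up to a scalar on the last vector. -/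
theorem exists_SL_map_family {k : ℕ} (u v : Fin (k + 1) → (Fin n → F))
    (hu : LinearIndependent F u) (hv : LinearIndependent F v) :
    ∃ (g : Matrix.SpecialLinearGroup (Fin n) F) (c : F), c ≠ 0 ∧
      (∀ i : Fin k, g.1 *ᵥ u i.castSucc = v i.castSucc) ∧
      g.1 *ᵥ u (Fin.last k) = c • v (Fin.last k) := by
  classical
  obtain ⟨e, he⟩ := exists_linearEquiv_of_linearIndependent u v hu hv
  set δ : F := LinearMap.det (e : (Fin n → F) →ₗ[F] (Fin n → F)) with hδ
  have hδ0 : δ ≠ 0 := (LinearEquiv.isUnit_det' e).ne_zero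
  set w := v (Fin.last k) with hw
  have hnot : w ∉ Submodule.span F (v '' (Set.range (Fin.castSucc : Fin k → Fin (k + 1)))) := by
    apply hv.notMem_span_image
    rintro ⟨i, hi⟩
    exact (Fin.castSucc_lt_last i).ne hi
  obtain ⟨f, hfw, hf⟩ := Submodule.exists_dual_map_eq_bot_of_notMem hnot inferInstance
  have hf0 : ∀ i : Fin k, f (v i.castSucc) = 0 := by
    intro i
    have h1 : f (v i.castSucc) ∈
        (Submodule.span F (v '' (Set.range (Fin.castSucc : Fin k → Fin (k + 1))))).map f :=
      ⟨v i.castSucc, Submodule.subset_span ⟨i.castSucc, ⟨i, rfl⟩, rfl⟩, rfl⟩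
    rw [hf] at h1
    exact (Submodule.mem_bot F).mp h1
  set L : (Fin n → F) →ₗ[F] (Fin n → F) :=
    LinearMap.transvection (((δ⁻¹ - 1) * (f w)⁻¹) • f) w ∘ₗ (e : (Fin n → F) →ₗ[F] (Fin n → F))
    with hL
  have hdet : LinearMap.det L = 1 := by
    rw [hL, LinearMap.det_comp, LinearMap.transvection.det, ← hδ, LinearMap.smul_apply, smul_eq_mul]
    field_simp
    ring
  refine ⟨⟨LinearMap.toMatrix' L, by rw [LinearMap.det_toMatrix', hdet]⟩, δ⁻¹, inv_ne_zero hδ0,
    fun i => ?_, ?_⟩
  · show (LinearMap.toMatrix' L) *ᵥ u i.castSucc = v i.castSucc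
    rw [LinearMap.toMatrix'_mulVec, hL, LinearMap.comp_apply, LinearEquiv.coe_coe, he,
      LinearMap.transvection.apply, LinearMap.smul_apply, hf0, smul_zero, zero_smul, add_zero]
  · show (LinearMap.toMatrix' L) *ᵥ u (Fin.last k) = δ⁻¹ • v (Fin.last k)
    rw [LinearMap.toMatrix'_mulVec, hL, LinearMap.comp_apply, LinearEquiv.coe_coe, he,
      LinearMap.transvection.apply, LinearMap.smul_apply, smul_eq_mul, ← hw]
    have h1 : (δ⁻¹ - 1) * (f w)⁻¹ * f w = δ⁻¹ - 1 := by
      field_simp
    rw [h1, sub_smul, one_smul]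
    abel

/-- in dimension at least `m + 1` there is a vector outside the span of `m` vectors -/
theorem exists_notMem_span {m : ℕ} (hm : m < n) (v : Fin m → (Fin n → F)) :
    ∃ z : Fin n → F, z ∉ Submodule.span F (Set.range v) := by
  have hlt : Submodule.span F (Set.range v) < ⊤ := by
    rw [lt_top_iff_ne_top]
    intro htop
    have h1 : finrank F (Submodule.span F (Set.range v)) ≤ m := by
      have h2 := finrank_range_le_card (R := F) v
      rw [Fintype.card_fin] at h2
      exact h2
    rw [htop, finrank_top] at h1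
    simp at h1
    omega
  obtain ⟨z, -, hz⟩ := SetLike.exists_of_lt hlt
  exact ⟨z, hz⟩

end Cfsg.Agent.Lib.Helper36.ClsProd
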