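/-
helper36: S2272 (product of two classes of PSL_d, d ≥ 3, is not a class) - part 2:
for non-central `A, B ∈ SL_n(F)`, `n ≥ 3`, the traces of the products `A * (h B h⁻¹)`, `h ∈ SL_n(F)`,
take the value `0` and a non-zero value.

Method: for `N = x ⊗ φ` with `φ x = 0` and `u_s = 1 + s N`,
`tr (A u_s B' u_s⁻¹) = tr (A B') + s (φ (B' A x) - φ (A B' x)) - s² φ (B' x) φ (A x)`.
-/
import Mathlib
import Cfsg.Agent.Lib.Helper93.LinearBasics
import Cfsg.Agent.Lib.Helper36.ClsProd.Ext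

set_option autoImplicit false

namespace Cfsg.Agent.Lib.Helper36.ClsProd

open Matrix Module Cfsg.Agent.Lib.Helper93

variable {F : Type*} [Field F] {n : ℕ}

theorem trace_mul_vecMulVec (M : Matrix (Fin n) (Fin n) F) (x ψ : Fin n → F) :
    (M * vecMulVec x ψ).trace = ψ ⬝ᵥ (M *ᵥ x) := by
  rw [Matrix.mul_vecMulVec, Matrix.trace_vecMulVec, dotProduct_comm]

theorem trace_mul_vecMulVec_mul (A B : Matrix (Fin n) (Fin n) F) (x ψ : Fin n → F) :
    (A * vecMulVec x ψ * B).trace = ψ ⬝ᵥ (B *ᵥ (A *ᵥ x)) := by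
  rw [Matrix.trace_mul_comm, ← Matrix.mul_assoc, trace_mul_vecMulVec, Matrix.mulVec_mulVec]

/-- the trace of `A * (u_s B u_s⁻¹)` is affine in `s` when `φ (A x) φ (B x) = 0` -/
theorem trace_conj_tv (A B : Matrix (Fin n) (Fin n) F) (x φ : Fin n → F)
    (h2 : (φ ⬝ᵥ (A *ᵥ x)) * (φ ⬝ᵥ (B *ᵥ x)) = 0) (s : F) :
    (A * (tvMat x (s • φ) * B * tvMat x (-(s • φ)))).trace
      = (A * B).trace + s * (φ ⬝ᵥ (B *ᵥ (A *ᵥ x)) - φ ⬝ᵥ (A *ᵥ (B *ᵥ x))) := by
  unfold tvMat
  rw [Matrix.vecMulVec_neg]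
  have e : A * ((1 + vecMulVec x (s • φ)) * B * (1 + -vecMulVec x (s • φ)))
      = A * B + A * vecMulVec x (s • φ) * B - A * B * vecMulVec x (s • φ)
        - A * vecMulVec x (s • φ) * B * vecMulVec x (s • φ) := by
    noncomm_ring
  rw [e, Matrix.trace_sub, Matrix.trace_sub, Matrix.trace_add]
  have t1 : (A * vecMulVec x (s • φ) * B).trace = s * (φ ⬝ᵥ (B *ᵥ (A *ᵥ x))) := by
    rw [trace_mul_vecMulVec_mul, smul_dotProduct, smul_eq_mul]
  have t2 : (A * B * vecMulVec x (s • φ)).trace = s * (φ ⬝ᵥ (A *ᵥ (B *ᵥ x))) := by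
    rw [trace_mul_vecMulVec, smul_dotProduct, smul_eq_mul, Matrix.mulVec_mulVec]
  have t3 : (A * vecMulVec x (s • φ) * B * vecMulVec x (s • φ)).trace = 0 := by
    rw [Matrix.mul_assoc (A * vecMulVec x (s • φ)) B, Matrix.mul_vecMulVec B, Matrix.mul_vecMulVec A,
      Matrix.vecMulVec_mul_vecMulVec, Matrix.trace_vecMulVec]
    simp only [smul_dotProduct, dotProduct_smul, smul_eq_mul]
    rw [dotProduct_comm (A *ᵥ x) φ]
    linear_combination s ^ 2 * h2
  rw [t1, t2, t3]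
  ring

theorem conj_mulVec (g : Matrix.SpecialLinearGroup (Fin n) F) (B : Matrix (Fin n) (Fin n) F)
    (v : Fin n → F) :
    (g.1 * B * (g⁻¹).1) *ᵥ (g.1 *ᵥ v) = g.1 *ᵥ (B *ᵥ v) := by
  have h1 : (g⁻¹).1 * g.1 = 1 := by
    rw [← Matrix.SpecialLinearGroup.coe_mul, inv_mul_cancel, Matrix.SpecialLinearGroup.coe_one]
  rw [Matrix.mulVec_mulVec, Matrix.mul_assoc, h1, Matrix.mul_one, ← Matrix.mulVec_mulVec]

/-- a non-central element of `SL_n(F)` moves some vector off its line -/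
theorem exists_indep_of_not_center (X : Matrix.SpecialLinearGroup (Fin n) F)
    (hX : X ∉ Subgroup.center (Matrix.SpecialLinearGroup (Fin n) F)) :
    ∃ x : Fin n → F, LinearIndependent F ![x, X.1 *ᵥ x] := by
  by_contra hcon
  push Not at hcon
  apply hX
  have h : ∀ v : Fin n → F, ¬ LinearIndependent F ![v, Matrix.toLin' X.1 v] := by
    intro v
    rw [Matrix.toLin'_apply]
    exact hcon v
  obtain ⟨a, ha⟩ := LinearMap.exists_eq_smul_id_of_forall_notLinearIndependent h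
  have hXa : X.1 = a • (1 : Matrix (Fin n) (Fin n) F) := by
    have h1 := congrArg LinearMap.toMatrix' ha
    rw [LinearMap.toMatrix'_toLin'] at h1
    rw [h1, map_smul]
    congr 1
    exact LinearMap.toMatrix'_one
  rw [Matrix.SpecialLinearGroup.mem_center_iff]
  refine ⟨a, ?_, ?_⟩
  · have hd := X.det_coe
    rw [hXa, Matrix.det_smul, Matrix.det_one, mul_one] at hd
    exact hd
  · rw [hXa]
    ext i j
    simp [Matrix.scalar_apply, Matrix.diagonal_apply, Matrix.one_apply]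

/-- the key configuration -/
theorem exists_config (hn : 3 ≤ n) (A B : Matrix (Fin n) (Fin n) F) (x u : Fin n → F)
    (hA : LinearIndependent F ![x, A *ᵥ x]) (hB : LinearIndependent F ![u, B *ᵥ u]) :
    ∃ (g : Matrix.SpecialLinearGroup (Fin n) F) (φ : Fin n → F), φ ⬝ᵥ x = 0 ∧
      (φ ⬝ᵥ (A *ᵥ x)) * (φ ⬝ᵥ ((g.1 * B * (g⁻¹).1) *ᵥ x)) = 0 ∧
      φ ⬝ᵥ ((g.1 * B * (g⁻¹).1) *ᵥ (A *ᵥ x)) ≠ φ ⬝ᵥ (A *ᵥ ((g.1 * B * (g⁻¹).1) *ᵥ x)) := by
  classical
  set y := A *ᵥ x with hy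
  obtain ⟨z, hz⟩ := exists_notMem_span (F := F) (n := n) (m := 2) (by omega) ![x, y]
  obtain ⟨φ, hφU, hφz⟩ := exists_functional (Submodule.span F (Set.range ![x, y])) z hz
  have hφx : φ ⬝ᵥ x = 0 := hφU x (Submodule.subset_span ⟨0, rfl⟩)
  have hφy : φ ⬝ᵥ y = 0 := hφU y (Submodule.subset_span ⟨1, rfl⟩)
  have hT3 : LinearIndependent F ![z, x, y] := linearIndependent_finCons.mpr ⟨hA, hz⟩
  obtain ⟨w₀, hw₀⟩ := exists_notMem_span (F := F) (n := n) (m := 2) (by omega) ![u, B *ᵥ u]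
  have hS3 : LinearIndependent F ![w₀, u, B *ᵥ u] := linearIndependent_finCons.mpr ⟨hB, hw₀⟩
  by_cases hcase : B *ᵥ w₀ ∈ Submodule.span F (Set.range ![w₀, u, B *ᵥ u])
  · -- case (α)
    obtain ⟨cf, hcf⟩ := (Submodule.mem_span_range_iff_exists_fun F).mp hcase
    rw [Fin.sum_univ_three] at hcf
    replace hcf : cf 0 • w₀ + cf 1 • u + cf 2 • (B *ᵥ u) = B *ᵥ w₀ := hcf
    set c : F := φ ⬝ᵥ (A *ᵥ z) - cf 2 + 1 with hc
    set w := w₀ + c • u with hw
    have hS3' : LinearIndependent F ![w, u, B *ᵥ u] := by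
      refine linearIndependent_finCons.mpr ⟨hB, ?_⟩
      intro hw'
      apply hw₀
      have h1 : w₀ = w - c • u := by rw [hw]; abel
      rw [h1]
      exact Submodule.sub_mem _ hw' (Submodule.smul_mem _ _ (Submodule.subset_span ⟨0, rfl⟩))
    have hT3' : LinearIndependent F ![y, x, z] := by
      have h1 := hT3.comp ![2, 1, 0] (by decide)
      convert h1 using 1
      ext i
      fin_cases i <;> rfl
    obtain ⟨g, k, hk, hg, hglast⟩ := exists_SL_map_family ![w, u, B *ᵥ u] ![y, x, z] hS3' hT3'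
    have hgw : g.1 *ᵥ w = y := hg 0
    have hgu : g.1 *ᵥ u = x := hg 1
    have hgBu : g.1 *ᵥ (B *ᵥ u) = k • z := hglast
    have hBx : (g.1 * B * (g⁻¹).1) *ᵥ x = k • z := by
      rw [← hgu, conj_mulVec, hgBu]
    have hBw : B *ᵥ w = cf 0 • w + (cf 1 - cf 0 * c) • u + (cf 2 + c) • (B *ᵥ u) := by
      rw [hw, Matrix.mulVec_add, Matrix.mulVec_smul, ← hcf]
      simp only [smul_add, smul_smul, sub_smul, add_smul]
      abel
    have hBy : (g.1 * B * (g⁻¹).1) *ᵥ y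
        = cf 0 • y + (cf 1 - cf 0 * c) • x + ((cf 2 + c) * k) • z := by
      rw [← hgw, conj_mulVec, hBw, Matrix.mulVec_add, Matrix.mulVec_add, Matrix.mulVec_smul,
        Matrix.mulVec_smul, Matrix.mulVec_smul, hgw, hgu, hgBu, smul_smul]
    refine ⟨g, φ, hφx, ?_, ?_⟩
    · rw [hφy, zero_mul]
    · rw [hBy, hBx, Matrix.mulVec_smul]
      simp only [dotProduct_add, dotProduct_smul, hφx, hφy, hφz, smul_eq_mul, mul_zero, mul_one,
        zero_add, add_zero]
      intro h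
      apply hk
      have h3 : (cf 2 + c) * k - k * (φ ⬝ᵥ (A *ᵥ z)) = k := by rw [hc]; ring
      rw [h, sub_self] at h3
      exact h3.symm
  · -- case (β)
    have hS4 : LinearIndependent F ![B *ᵥ w₀, w₀, u, B *ᵥ u] :=
      linearIndependent_finCons.mpr ⟨hS3, hcase⟩
    have hn4 : 4 ≤ n := by
      have h1 := hS4.fintype_card_le_finrank
      simpa using h1
    obtain ⟨t₁, ht₁⟩ := exists_notMem_span (F := F) (n := n) (m := 3) (by omega) ![z, x, y]
    set ε : F := if φ ⬝ᵥ (A *ᵥ z) = 0 then 1 else 0 with hε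
    set t := t₁ - (φ ⬝ᵥ t₁) • z + ε • z with ht
    have hφt : φ ⬝ᵥ t = ε := by
      rw [ht]
      simp only [dotProduct_add, dotProduct_sub, dotProduct_smul, hφz, smul_eq_mul, mul_one]
      ring
    have htn : t ∉ Submodule.span F (Set.range ![z, x, y]) := by
      intro h1
      apply ht₁
      have hzmem : z ∈ Submodule.span F (Set.range ![z, x, y]) := Submodule.subset_span ⟨0, rfl⟩
      have h2 : t₁ = t + (φ ⬝ᵥ t₁) • z - ε • z := by rw [ht]; abel
      rw [h2]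
      exact Submodule.sub_mem _ (Submodule.add_mem _ h1 (Submodule.smul_mem _ _ hzmem))
        (Submodule.smul_mem _ _ hzmem)
    have hT4 : LinearIndependent F ![t, z, x, y] := linearIndependent_finCons.mpr ⟨hT3, htn⟩
    have hS4' : LinearIndependent F ![w₀, u, B *ᵥ u, B *ᵥ w₀] := by
      have h1 := hS4.comp ![1, 2, 3, 0] (by decide)
      convert h1 using 1
      ext i
      fin_cases i <;> rfl
    have hT4' : LinearIndependent F ![y, x, z, t] := by
      have h1 := hT4.comp ![3, 2, 1, 0] (by decide)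
      convert h1 using 1
      ext i
      fin_cases i <;> rfl
    obtain ⟨g, k, hk, hg, hglast⟩ :=
      exists_SL_map_family ![w₀, u, B *ᵥ u, B *ᵥ w₀] ![y, x, z, t] hS4' hT4'
    have hgw : g.1 *ᵥ w₀ = y := hg 0
    have hgu : g.1 *ᵥ u = x := hg 1
    have hgBu : g.1 *ᵥ (B *ᵥ u) = z := hg 2
    have hgBw : g.1 *ᵥ (B *ᵥ w₀) = k • t := hglast
    have hBx : (g.1 * B * (g⁻¹).1) *ᵥ x = z := by
      rw [← hgu, conj_mulVec, hgBu]
    have hBy : (g.1 * B * (g⁻¹).1) *ᵥ y = k • t := by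
      rw [← hgw, conj_mulVec, hgBw]
    refine ⟨g, φ, hφx, ?_, ?_⟩
    · rw [hφy, zero_mul]
    · rw [hBy, hBx, dotProduct_smul, hφt, smul_eq_mul]
      rw [hε]
      split_ifs with h0
      · rw [h0, mul_one]
        exact hk
      · rw [mul_zero]
        exact fun h => h0 h.symm

end Cfsg.Agent.Lib.Helper36.ClsProd
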