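/-
helper36: S2272 (product of two classes of PSL_d, d ≥ 3, is not a class) - part 3:
the traces of `A * (h B h⁻¹)` take the value zero and a non-zero value; passage to `PSL`.
-/
import Mathlib
import Cfsg.Agent.Lib.Helper36.ClsProd.Main

set_option autoImplicit false

namespace Cfsg.Agent.Lib.Helper36.ClsProd

open Matrix Module Cfsg.Agent.Lib.Helper93

variable {F : Type*} [Field F] {n : ℕ}

/-- the transvection `1 + x ⊗ ψ` (with `ψ x = 0`) as an element of `SL_n` -/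
def tvSL (x ψ : Fin n → F) (h : ψ ⬝ᵥ x = 0) : Matrix.SpecialLinearGroup (Fin n) F :=
  ⟨tvMat x ψ, by rw [det_tvMat, h, add_zero]⟩

theorem tvSL_val (x ψ : Fin n → F) (h : ψ ⬝ᵥ x = 0) : (tvSL x ψ h).1 = tvMat x ψ := rfl

theorem tvSL_inv_val (x ψ : Fin n → F) (h : ψ ⬝ᵥ x = 0) : ((tvSL x ψ h)⁻¹).1 = tvMat x (-ψ) := by
  have h' : (-ψ) ⬝ᵥ x = 0 := by rw [neg_dotProduct, h, neg_zero]
  have e : (tvSL x ψ h)⁻¹ = tvSL x (-ψ) h' := by
    rw [inv_eq_iff_mul_eq_one]
    apply Subtype.ext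
    rw [Matrix.SpecialLinearGroup.coe_mul, tvSL_val, tvSL_val, tvMat_mul_tvMat x ψ (-ψ) h,
      add_neg_cancel, tvMat_zero, Matrix.SpecialLinearGroup.coe_one]
  rw [e, tvSL_val]

/-- main SL-level statement -/
theorem exists_trace_zero_and_ne (hn : 3 ≤ n) (A B : Matrix.SpecialLinearGroup (Fin n) F)
    (hA : A ∉ Subgroup.center (Matrix.SpecialLinearGroup (Fin n) F))
    (hB : B ∉ Subgroup.center (Matrix.SpecialLinearGroup (Fin n) F)) :
    ∃ h₀ h₁ : Matrix.SpecialLinearGroup (Fin n) F,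
      (A.1 * (h₀ * B * h₀⁻¹).1).trace = 0 ∧ (A.1 * (h₁ * B * h₁⁻¹).1).trace ≠ 0 := by
  obtain ⟨x, hx⟩ := exists_indep_of_not_center A hA
  obtain ⟨u, hu⟩ := exists_indep_of_not_center B hB
  obtain ⟨g, φ, hφx, h2, hne⟩ := exists_config hn A.1 B.1 x u hx hu
  set B' : Matrix (Fin n) (Fin n) F := g.1 * B.1 * (g⁻¹).1 with hB'
  set sl : F := φ ⬝ᵥ (B' *ᵥ (A.1 *ᵥ x)) - φ ⬝ᵥ (A.1 *ᵥ (B' *ᵥ x)) with hsl
  have hsl0 : sl ≠ 0 := sub_ne_zero.mpr hne
  have hsφ : ∀ s : F, (s • φ) ⬝ᵥ x = 0 := fun s => by rw [smul_dotProduct, hφx, smul_zero]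
  have key : ∀ s : F, (A.1 * ((tvSL x (s • φ) (hsφ s) * g) * B * (tvSL x (s • φ) (hsφ s) * g)⁻¹).1).trace
      = (A.1 * B').trace + s * sl := by
    intro s
    have e : ((tvSL x (s • φ) (hsφ s) * g) * B * (tvSL x (s • φ) (hsφ s) * g)⁻¹).1
        = tvMat x (s • φ) * B' * tvMat x (-(s • φ)) := by
      rw [_root_.mul_inv_rev]
      simp only [Matrix.SpecialLinearGroup.coe_mul]
      rw [tvSL_val, tvSL_inv_val, hB']
      simp only [Matrix.mul_assoc]
    rw [e, trace_conj_tv A.1 B' x φ h2 s]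
  refine ⟨tvSL x ((-(A.1 * B').trace / sl) • φ) (hsφ _) * g,
    tvSL x (((1 - (A.1 * B').trace) / sl) • φ) (hsφ _) * g, ?_, ?_⟩
  · rw [key]
    field_simp
    ring
  · rw [key]
    have : (A.1 * B').trace + (1 - (A.1 * B').trace) / sl * sl = 1 := by
      field_simp
      ring
    rw [this]
    exact one_ne_zero

/-- trace zero is invariant under conjugation and central multiplication -/
theorem trace_eq_zero_of_conj_mod_center (X Y c : Matrix.SpecialLinearGroup (Fin n) F)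
    (hc : c ∈ Subgroup.center (Matrix.SpecialLinearGroup (Fin n) F))
    (k : Matrix.SpecialLinearGroup (Fin n) F) (hXY : k * X * k⁻¹ = Y * c) (h0 : X.1.trace = 0) :
    Y.1.trace = 0 := by
  rcases Nat.eq_zero_or_pos n with hn0 | hnpos
  · subst hn0
    simp [Matrix.trace]
  rw [Matrix.SpecialLinearGroup.mem_center_iff] at hc
  obtain ⟨r, hr, hrc⟩ := hc
  have hr0 : r ≠ 0 := by
    intro h
    rw [h, zero_pow (by simpa using hnpos.ne')] at hr
    exact zero_ne_one hr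
  have h1 : (k * X * k⁻¹).1.trace = X.1.trace := by
    simp only [Matrix.SpecialLinearGroup.coe_mul]
    rw [Matrix.trace_mul_comm, ← Matrix.mul_assoc, ← Matrix.SpecialLinearGroup.coe_mul,
      inv_mul_cancel, Matrix.SpecialLinearGroup.coe_one, Matrix.one_mul]
  have hsc : (Matrix.scalar (Fin n)) r = r • (1 : Matrix (Fin n) (Fin n) F) := by
    ext i j
    simp [Matrix.one_apply, Matrix.diagonal_apply]
  have h2 : (Y * c).1.trace = r * Y.1.trace := by
    rw [Matrix.SpecialLinearGroup.coe_mul, ← hrc, hsc, Matrix.mul_smul, Matrix.mul_one,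
      Matrix.trace_smul, smul_eq_mul]
  rw [hXY, h2, h0] at h1
  rcases mul_eq_zero.mp h1 with h | h
  · exact absurd h hr0
  · exact h

end Cfsg.Agent.Lib.Helper36.ClsProd
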